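import Cfsg.Agent.Lib.Classical.GeoThree.SU.Axis
import Cfsg.Agent.Lib.Classical.ParabolicGL
import Cfsg.Agent.Lib.Classical.AschPrime.Basic

/-!
# Transvections in matrix groups inside `SU₃(q)`
-/

set_option autoImplicit false
set_option linter.unusedSectionVars false
set_option linter.style.haveILetI false
set_option backward.isDefEq.respectTransparency false

open Matrix Module

namespace CfsgLib.Classical.GeoThree.SU

open CfsgLib.Classical CfsgLib.Classical.UFrameMax

variable {F : Type*} [Field F] [Fintype F] {q : ℕ} {σ : F →+* F}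

local notation "M3" => Matrix (Fin 3) (Fin 3) F
local notation "G3" => GL (Fin 3) F

theorem conj_dot (v x : Fin 3 → F) : (fun i => σ (v i)) ⬝ᵥ x = stdHerm σ 3 v x := rfl

/-- The unitary transvection in matrices. -/
def uTr (σ : F →+* F) (v : Fin 3 → F) (hv : stdHerm σ 3 v v = 0) (c : F) : GL (Fin 3) F :=
  trGL (c • v) (fun i => σ (v i)) (by rw [dotProduct_smul, conj_dot, hv, smul_zero])

theorem uTr_mulVec {v : Fin 3 → F} (hv : stdHerm σ 3 v v = 0) (c : F) (x : Fin 3 → F) :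
    (uTr σ v hv c : M3) *ᵥ x = x + (c * stdHerm σ 3 v x) • v := by
  rw [uTr, trGL_mulVec, conj_dot, smul_smul, mul_comm]

/-- An irreducible subgroup of `GU₃` with a full unitary root group contains `SU₃`. -/
theorem su_le_of_root (hF : Fintype.card F = q ^ 2) (hq : 3 ≤ q) (hσ : ∀ x, σ x = x ^ q) (hc : IsConjugation σ)
    {M : Subgroup G3} (hirr : Cfsg.Geo.ActsIrreducibly (Cfsg.Geo.matrixSet M)) (hMU : M ≤ Cfsg.GU 3 F q)
    {v : Fin 3 → F} (hv0 : v ≠ 0) (hv : stdHerm σ 3 v v = 0)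
    (hroot : ∀ c, c + σ c = 0 → uTr σ v hv c ∈ M) :
    Cfsg.GU 3 F q ⊓ Cfsg.Geo.specialLinear (Fin 3) F ≤ M := by
  classical
  let ψ : isomGroup (stdHerm σ 3) →* G3 :=
    (linToGL (ι := Fin 3) (F := F)).comp (isomGroup (stdHerm σ 3)).subtype
  have hax : IsTAxis (M.comap ψ) v := fun g c hg => by
    show linToGL g.1 ∈ M
    convert hroot c hg.2.1 using 1
    refine Units.ext (Matrix.ext_iff_mulVec.2 fun x => ?_)
    rw [linToGL_mulVec, uTr_mulVec, hg.2.2]
  have h := (stdHerm_isHermitian hc 3).sIsom_le_of_axis_irr (stdHerm_sepRight (σ := σ) 3)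
    (bigFixed_of_three hF hσ hc hq) (Module.finrank_fin_fun F) hv0 hv hax fun W hW => by
      rw [AschPrime.irr_iff] at hirr
      refine hirr W ?_
      rintro _ ⟨m, hm, rfl⟩ x hx
      exact hW (guEquiv hσ ⟨m, hMU hm⟩) (by
        show linToGL (guEquiv hσ ⟨m, hMU hm⟩).1 ∈ M
        rwa [show linToGL (guEquiv hσ ⟨m, hMU hm⟩).1 = m from
          congrArg Subtype.val ((guEquiv hσ).symm_apply_apply ⟨m, hMU hm⟩)]) x hx
  rintro t ⟨h1, h2⟩
  have := h (show guEquiv hσ ⟨t, h1⟩ ∈ sIsom _ from MonoidHom.mem_ker.2 (by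
    rw [idet_guEquiv]
    have h3 := congrArg Units.val (MonoidHom.mem_ker.1 h2)
    rwa [Matrix.GeneralLinearGroup.val_det_apply, Units.val_one] at h3))
  change linToGL (guEquiv hσ ⟨t, h1⟩).1 ∈ M at this
  rwa [show linToGL (guEquiv hσ ⟨t, h1⟩).1 = t from
    congrArg Subtype.val ((guEquiv hσ).symm_apply_apply ⟨t, h1⟩)] at this

/-- A transvection in `GU₃` is unitary. -/
theorem transv_unitary (hσ : ∀ x, σ x = x ^ q) (hc : IsConjugation σ) {v f : Fin 3 → F} {hperp : f ⬝ᵥ v = 0}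
    (hv0 : v ≠ 0) (hf0 : f ≠ 0) (hmem : trGL v f hperp ∈ Cfsg.GU 3 F q) :
    stdHerm σ 3 v v = 0 ∧ ∃ c, c ≠ 0 ∧ c + σ c = 0 ∧ f = c • fun i => σ (v i) := by
  have h := stdHerm_isHermitian hc 3
  have hN := stdHerm_sepRight (σ := σ) 3
  set B := stdHerm σ 3 with hB
  have key : ∀ x y, σ (f ⬝ᵥ x) * B v y + (f ⬝ᵥ y) * B x v + σ (f ⬝ᵥ x) * (f ⬝ᵥ y) * B v v = 0 := by
    intro x y
    have e := (mem_GU_iff hσ).1 hmem x y
    rw [trGL_mulVec, trGL_mulVec] at e
    simp only [map_add, map_smulₛₗ, map_smul, LinearMap.add_apply, LinearMap.smul_apply, smul_eq_mul,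
      RingHom.id_apply, ← hB] at e
    linear_combination e
  have hvv : B v v = 0 := by
    obtain ⟨i, hi⟩ := Function.ne_iff.1 hf0
    have := key v (Pi.single i 1)
    simp only [hperp, map_zero, zero_mul, add_zero, zero_add, dotProduct_single, mul_one, mul_eq_zero] at this
    exact this.resolve_left hi
  obtain ⟨x₀, hx₀⟩ : ∃ x, B v x = 1 := by
    obtain ⟨i, hi⟩ := Function.ne_iff.1 hv0
    have hne : B v (Pi.single i 1) ≠ 0 := by
      rw [← h.symm (Pi.single i 1) v, hB, stdHerm_single]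
      exact fun e => hi ((map_eq_zero σ).1 e)
    exact ⟨(B v (Pi.single i 1))⁻¹ • Pi.single i 1, by rw [map_smul, smul_eq_mul, inv_mul_cancel₀ hne]⟩
  have hx₀' : B x₀ v = 1 := by rw [← h.symm v x₀, hx₀, map_one]
  have hf : ∀ y, f ⬝ᵥ y = -σ (f ⬝ᵥ x₀) * B v y := fun y => by
    have := key x₀ y
    rw [hx₀', hvv] at this
    linear_combination this
  refine ⟨hvv, -σ (f ⬝ᵥ x₀), ?_, ?_, ?_⟩
  · intro e
    exact hf0 (funext fun i => by
      have := hf (Pi.single i 1)
      rw [e, zero_mul, dotProduct_single, mul_one] at this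
      exact this)
  · have := hf x₀
    rw [hx₀, mul_one] at this
    rw [map_neg, hc.invol]
    linear_combination -this
  · funext i
    have := hf (Pi.single i 1)
    rwa [dotProduct_single, mul_one, hB, ← conj_dot, dotProduct_single, mul_one] at this

/-- For prime `q` one transvection is enough. -/
theorem su_le_of_prime_transv (hF : Fintype.card F = q ^ 2) (hqp : q.Prime) (hq : 3 ≤ q)
    {M : Subgroup G3} (hirr : Cfsg.Geo.ActsIrreducibly (Cfsg.Geo.matrixSet M)) (hMU : M ≤ Cfsg.GU 3 F q)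
    {v f : Fin 3 → F} {hperp : f ⬝ᵥ v = 0} (hv0 : v ≠ 0) (hf0 : f ≠ 0) (hmem : trGL v f hperp ∈ M) :
    Cfsg.GU 3 F q ⊓ Cfsg.Geo.specialLinear (Fin 3) F ≤ M := by
  classical
  obtain ⟨σ, hσ, hc⟩ := exists_frob hF
  obtain ⟨hvv, c, hc0, hcs, rfl⟩ := transv_unitary hσ hc hv0 hf0 (hMU hmem)
  refine su_le_of_root hF hq hσ hc hirr hMU hv0 hvv fun d hd => ?_
  -- the fixed field is the prime field
  haveI : Fact q.Prime := ⟨hqp⟩
  obtain ⟨p, hp⟩ := CharP.exists F
  obtain ⟨e, hpp, he⟩ := FiniteField.card F p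
  have hpq : p = q := by
    have hdvd : q ∣ p ^ (e : ℕ) := by rw [← he, hF]; exact dvd_pow_self q two_ne_zero
    exact ((Nat.prime_dvd_prime_iff_eq hqp hpp).1 (hqp.dvd_of_dvd_pow hdvd)).symm
  subst hpq
  let ι : ZMod p →+* F := ZMod.castHom dvd_rfl F
  have hsub : (Finset.univ.image ι) = fixS σ := by
    refine Finset.eq_of_subset_of_card_le (fun x hx => ?_) ?_
    · obtain ⟨a, -, rfl⟩ := Finset.mem_image.1 hx
      simp only [fixS, Finset.mem_filter, Finset.mem_univ, true_and]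
      rw [hσ, ← map_pow, ZMod.pow_card]
    · rw [Finset.card_image_of_injective _ ι.injective, Finset.card_univ, ZMod.card]
      exact (Nat.pow_left_injective two_ne_zero ((card_fix_sq hc).symm.trans hF)).le
  have hfix : d / c ∈ fixS σ := by
    simp only [fixS, Finset.mem_filter, Finset.mem_univ, true_and]
    rw [map_div₀, eq_neg_of_add_eq_zero_right hd, eq_neg_of_add_eq_zero_right hcs, neg_div_neg_eq]
  rw [← hsub] at hfix
  obtain ⟨a, -, ha⟩ := Finset.mem_image.1 hfix
  obtain ⟨n, rfl⟩ := ZMod.natCast_zmod_surjective a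
  rw [map_natCast, eq_comm, div_eq_iff hc0] at ha
  convert pow_mem hmem n using 1
  refine Units.ext (Matrix.ext_iff_mulVec.2 fun x => ?_)
  have hpow : ∀ k : ℕ, ((trGL v (c • fun i => σ (v i)) hperp ^ k : G3) : M3) *ᵥ x =
      x + (k * c * stdHerm σ 3 v x) • v := by
    intro k
    induction k with
    | zero => simp
    | succ k ih =>
      rw [pow_succ', Units.val_mul, ← mulVec_mulVec, ih, trGL_mulVec, smul_dotProduct, conj_dot, map_add,
        map_smul, hvv, smul_eq_mul, smul_eq_mul, mul_zero, add_zero, Nat.cast_succ, add_mul, one_mul, add_mul,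
        add_smul]
      abel
  rw [hpow, uTr_mulVec, ha]

end CfsgLib.Classical.GeoThree.SU
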