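import Cfsg.Agent.Lib.Classical.GeoThree.SU.Stab
import Cfsg.Agent.Lib.Classical.UFrameMax.Circle

/-!
# An irreducible group with one full transvection group contains `SU₃`

Two non-orthogonal axes fill their line; if an isotropic point were no axis, each of the `q²` secants
through it would hold at most one axis, while three independent axes already produce `q² + q`.
-/

set_option autoImplicit false
set_option linter.unusedSectionVars false

open Module

namespace CfsgLib.Classical.IsHermitian

open CfsgLib.Classical.UFrameMax (fixS card_fix_sq)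

variable {F : Type*} [Field F] [Fintype F] [DecidableEq F] {V : Type*} [AddCommGroup V] [Module F V]
  [FiniteDimensional F V] {σ : F →+* F} {B : V →ₛₗ[σ] V →ₗ[F] F} (h : IsHermitian B)
include h

theorem line_axis (hN : B.SeparatingRight) {M : Subgroup (isomGroup B)} {a b p : V} (ha : IsTAxis M a)
    (haa : B a a = 0) (hb : IsTAxis M b) (hbb : B b b = 0) (hab : B a b ≠ 0) {α β : F} (hp : p = α • a + β • b)
    (hpp : B p p = 0) : IsTAxis M p := by
  subst hp
  rcases eq_or_ne β 0 with rfl | hβ
  · rcases eq_or_ne α 0 with rfl | hα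
    · simpa using h.isTAxis_zero M
    · simpa using ha.smul h.conj.invol hα
  rw [h.add_self, h.smul_self, h.smul_self, haa, hbb, mul_zero, mul_zero, zero_add, zero_add] at hpp
  simp only [map_smulₛₗ, map_smul, LinearMap.smul_apply, smul_eq_mul, map_mul, h.symm, RingHom.id_apply] at hpp
  have hσ : σ (B a b) = B b a := h.symm a b
  set c := α / (β * B a b) with hc
  have hc0 : c + σ c = 0 := by
    have hσβ : σ β ≠ 0 := (map_ne_zero σ).2 hβ
    have hσB : B b a ≠ 0 := hσ ▸ (map_ne_zero σ).2 hab
    rw [hc, map_div₀, map_mul, hσ]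
    field_simp
    rw [← hσ] at hpp ⊢
    simp only [h.conj.invol] at hpp
    linear_combination hpp
  have h1 := (h.axis_step hN ha haa hb hc0).smul h.conj.invol hβ
  rw [smul_add, smul_smul, show β * (c * B a b) = α by rw [hc]; field_simp, add_comm] at h1
  exact h1

/-- Independent isotropic vectors are not orthogonal in dimension three. -/
theorem not_orth_three (hN : B.SeparatingRight) (h3 : finrank F V = 3) {a b : V} (haa : B a a = 0)
    (hbb : B b b = 0) (hind : LinearIndependent F ![a, b]) : B a b ≠ 0 := by
  intro hab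
  set W := Submodule.span F (Set.range ![a, b])
  have hW : ∀ x ∈ W, ∀ y ∈ W, B x y = 0 := by
    have hle : W ≤ perp B W := by
      rw [Submodule.span_le]
      rintro _ ⟨j, rfl⟩
      refine mem_perp.2 fun w hw => ?_
      induction hw using Submodule.span_induction with
      | mem x hx =>
        obtain ⟨i, rfl⟩ := hx
        fin_cases i <;> fin_cases j
        exacts [haa, hab, h.isRefl _ _ hab, hbb]
      | zero => simp
      | add x y _ _ hx hy => rw [map_add, LinearMap.add_apply, hx, hy, add_zero]
      | smul c x _ hx => rw [map_smulₛₗ, LinearMap.smul_apply, hx, smul_zero]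
    exact fun x hx y hy => mem_perp.1 (hle hy) x hx
  have hperp : W ≤ perp B W := fun y hy => mem_perp.2 fun x hx => hW x hx y hy
  let L : V →ₗ[F] F × F := (B a).prod (B b)
  have hker : LinearMap.ker L = perp B W := by
    ext x
    rw [LinearMap.mem_ker, show L x = (B a x, B b x) from rfl, Prod.mk_eq_zero]
    refine ⟨fun hx => mem_perp.2 fun w hw => ?_, fun hx => ⟨mem_perp.1 hx a (Submodule.subset_span ⟨0, rfl⟩),
      mem_perp.1 hx b (Submodule.subset_span ⟨1, rfl⟩)⟩⟩
    induction hw using Submodule.span_induction with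
    | mem w hw =>
      obtain ⟨i, rfl⟩ := hw
      fin_cases i
      exacts [hx.1, hx.2]
    | zero => simp
    | add u v _ _ hu hv => rw [map_add, LinearMap.add_apply, hu, hv, add_zero]
    | smul c u _ hu => rw [map_smulₛₗ, LinearMap.smul_apply, hu, smul_zero]
  have hsurj : Function.Surjective L := by
    rw [← LinearMap.range_eq_top]
    by_contra hne
    obtain ⟨φ, hφ0, hφ⟩ := Submodule.exists_dual_map_eq_bot_of_lt_top (lt_top_iff_ne_top.2 hne) inferInstance
    set r := φ (1, 0)
    set s := φ (0, 1)
    have hz : ∀ x, r * B a x + s * B b x = 0 := fun x => by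
      have h1 := (Submodule.eq_bot_iff _).1 hφ (φ (L x)) ⟨L x, ⟨x, rfl⟩, rfl⟩
      have h2 : L x = B a x • ((1 : F), (0 : F)) + B b x • ((0 : F), (1 : F)) := by simp [L, Pi.prod]
      rw [h2, map_add, map_smul, map_smul, smul_eq_mul, smul_eq_mul] at h1
      linear_combination h1
    have hv : σ r • a + σ s • b = 0 := hN _ fun x => by
      apply h.isRefl
      simp [h.conj.invol, hz x]
    obtain ⟨e1, e2⟩ := LinearIndependent.pair_iff.1 hind _ _ hv
    refine hφ0 (LinearMap.ext fun p => ?_)
    rw [show p = p.1 • ((1 : F), (0 : F)) + p.2 • ((0 : F), (1 : F)) by simp, map_add, map_smul, map_smul,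
      show φ (1, 0) = 0 from (map_eq_zero σ).1 e1, show φ (0, 1) = 0 from (map_eq_zero σ).1 e2]
    simp
  have h1 := L.finrank_range_add_finrank_ker
  rw [LinearMap.range_eq_top.2 hsurj, finrank_top, finrank_prod, finrank_self, hker, h3] at h1
  have h2 := Submodule.finrank_mono hperp
  rw [finrank_span_eq_card hind, Fintype.card_fin] at h2
  omega

/-- One full transvection group and irreducibility give the special unitary group. -/
theorem sIsom_le_of_axis_irr (hN : B.SeparatingRight) (hb : BigFixed σ) (h3 : finrank F V = 3)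
    {M : Subgroup (isomGroup B)} {v₀ : V} (hv0 : v₀ ≠ 0) (hvv : B v₀ v₀ = 0) (hax : IsTAxis M v₀)
    (hirr : ∀ W : Submodule F V, (∀ g ∈ M, ∀ x ∈ W, g.1 x ∈ W) → W = ⊥ ∨ W = ⊤) : sIsom B ≤ M := by
  classical
  haveI : Finite V := Module.finite_of_finite F
  -- three independent axes
  have hspan : ∀ W : Submodule F V, W ≠ ⊤ → ∃ x, B x x = 0 ∧ IsTAxis M x ∧ x ∉ W := by
    intro W hW
    by_contra hall
    push Not at hall
    rcases hirr (Submodule.span F {x | B x x = 0 ∧ IsTAxis M x}) (fun g hg x hx => by
      induction hx using Submodule.span_induction with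
      | mem y hy => exact Submodule.subset_span ⟨(g.2 y y).trans hy.1, hy.2.map hg⟩
      | zero => simp
      | add y z _ _ hy hz => rw [map_add]; exact add_mem hy hz
      | smul c y _ hy => rw [map_smul]; exact Submodule.smul_mem _ c hy) with e | e
    · exact hv0 ((Submodule.eq_bot_iff _).1 e v₀ (Submodule.subset_span ⟨hvv, hax⟩))
    · exact hW (eq_top_iff.2 (e ▸ Submodule.span_le.2 fun x hx => hall x hx.1 hx.2))
  obtain ⟨b, hbb, hbax, hb0⟩ := hspan ⊥ (fun e => by
    have := congrArg (fun W : Submodule F V => finrank F W) e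
    simp only [finrank_bot, finrank_top, h3] at this
    omega)
  have hb0' : b ≠ 0 := fun e => hb0 (by rw [e]; exact zero_mem _)
  obtain ⟨c₁, hcc₁, hcax₁, hc₁⟩ := hspan (Submodule.span F {b}) (fun e => by
    have := finrank_span_singleton (K := F) hb0'
    rw [e, finrank_top, h3] at this
    omega)
  have hbc₁ : LinearIndependent F ![b, c₁] := (LinearIndependent.pair_iff' hb0').2 fun t e =>
    hc₁ (e ▸ Submodule.smul_mem _ t (Submodule.mem_span_singleton_self b))
  have hBbc := h.not_orth_three hN h3 hbb hcc₁ hbc₁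
  obtain ⟨c, hc', hcc, hcax, hBbc1⟩ : ∃ c, c ∈ Submodule.span F {b, c₁} ∧ B c c = 0 ∧ IsTAxis M c ∧ B b c = 1 :=
    ⟨(B b c₁)⁻¹ • c₁, Submodule.smul_mem _ _ (Submodule.subset_span (by simp)),
      by rw [h.smul_self, hcc₁, mul_zero], hcax₁.smul h.conj.invol (inv_ne_zero hBbc),
      by rw [map_smul, smul_eq_mul, inv_mul_cancel₀ hBbc]⟩
  set P := Submodule.span F ({b, c} : Set V) with hP
  obtain ⟨a, haa, haax, haP⟩ := hspan P (fun e => by
    have h1 : finrank F P ≤ 2 := by
      refine (finrank_span_le_card _).trans ?_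
      rw [Set.toFinset_insert, Set.toFinset_singleton]
      exact Finset.card_le_two
    rw [e, finrank_top, h3] at h1
    omega)
  refine h.sIsom_le_of_axes_big hN hb fun u huu => ?_
  by_contra hu
  have hu0 : u ≠ 0 := fun e => hu (e ▸ h.isTAxis_zero M)
  have huax : ∀ {x y : V}, IsTAxis M x → B x x = 0 → IsTAxis M y → B y y = 0 →
      LinearIndependent F ![x, y] → ∀ {α β : F}, u = α • x + β • y → False := fun {x y} hx hxx hy hyy hind {α β} e =>
    hu (h.line_axis hN hx hxx hy hyy (h.not_orth_three hN h3 hxx hyy hind) e huu)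
  -- the points of the plane and of the joins
  let T : Finset F := Finset.univ.filter fun t => t + σ t = 0
  let R : Option {t // t ∈ T} → V := fun o => o.elim b fun t => c + (t.1 : F) • b
  have hT : ∀ t : {t // t ∈ T}, (t.1 : F) + σ t.1 = 0 := fun t => (Finset.mem_filter.1 t.2).2
  have hcb : B c b = 1 := by rw [← h.symm b c, hBbc1, map_one]
  have hR : ∀ o, B (R o) (R o) = 0 ∧ IsTAxis M (R o) ∧ R o ∈ P ∧ R o ≠ 0 := by
    rintro (_ | t)
    · exact ⟨hbb, hbax, Submodule.subset_span (by simp [R]), hb0'⟩
    · have e : c + (t.1 : F) • b = (t.1 : F) • b + (1 : F) • c := by rw [one_smul, add_comm]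
      have hzero : B (c + (t.1 : F) • b) (c + (t.1 : F) • b) = 0 := by
        rw [h.add_self, h.smul_self, hbb, hcc, map_smul, hcb, smul_eq_mul, mul_one, mul_zero, add_zero, zero_add]
        exact hT t
      refine ⟨hzero, ?_, add_mem (Submodule.subset_span (by simp)) (Submodule.smul_mem _ _
        (Submodule.subset_span (by simp))), fun e0 => ?_⟩
      · exact h.line_axis hN hbax hbb hcax hcc (by rw [hBbc1]; exact one_ne_zero) e hzero
      · have := congrArg (B b) e0
        simp [R, hbb, hBbc1] at this
  have hRne : ∀ {o o'}, o ≠ o' → ∀ l : F, l • R o ≠ R o' := by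
    rintro (_ | t) (_ | t') hne l e
    · exact hne rfl
    · have := congrArg (B b) e
      simp [R, hbb, hBbc1] at this
    · have := congrArg (B b) e
      simp [R, hbb, hBbc1] at this
      have h2 := congrArg (B c) e
      simp [R, this, hcb, hbb] at h2
    · have e1 := congrArg (B b) e
      simp [R, hbb, hBbc1] at e1
      rw [e1, one_smul] at e
      have e2 := congrArg (B c) e
      simp [R, hcc, hcb] at e2
      exact hne (congrArg some e2)
  have hBa : ∀ o, B a (R o) ≠ 0 := fun o => h.not_orth_three hN h3 haa (hR o).1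
    ((LinearIndependent.pair_iff' fun e => haP (by rw [e]; exact zero_mem _)).2 fun l e => by
      rcases eq_or_ne l 0 with rfl | hl
      · exact (hR o).2.2.2 (by rw [← e, zero_smul])
      · exact haP (by rw [← inv_smul_smul₀ hl a, e]; exact Submodule.smul_mem _ _ (hR o).2.2.1))
  let X : Option {t // t ∈ T} × {t // t ∈ T} → V := fun p => (B a (R p.1))⁻¹ • R p.1 + (p.2.1 : F) • a
  have hX : ∀ p, B (X p) (X p) = 0 ∧ IsTAxis M (X p) := by
    intro p
    have h1 : B a ((B a (R p.1))⁻¹ • R p.1) = 1 := by rw [map_smul, smul_eq_mul, inv_mul_cancel₀ (hBa _)]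
    have hzero : B (X p) (X p) = 0 := by
      show B ((B a (R p.1))⁻¹ • R p.1 + (p.2.1 : F) • a) ((B a (R p.1))⁻¹ • R p.1 + (p.2.1 : F) • a) = 0
      rw [h.add_self, h.smul_self, h.smul_self, (hR p.1).1, haa, map_smul ((B ((B a (R p.1))⁻¹ • R p.1))),
        show B ((B a (R p.1))⁻¹ • R p.1) a = 1 by rw [← h.symm a, h1, map_one]]
      simp only [mul_zero, add_zero, zero_add, smul_eq_mul, mul_one]
      exact hT p.2
    exact ⟨hzero, h.line_axis hN (hR p.1).2.1 (hR p.1).1 haax haa
      (fun e => hBa p.1 (h.isRefl _ _ e)) (α := (B a (R p.1))⁻¹) (β := (p.2.1 : F)) rfl hzero⟩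
  have hXa : ∀ p, B a (X p) = 1 := fun p => by simp [X, haa, inv_mul_cancel₀ (hBa _)]
  have hXinj : ∀ p p', ∀ l : F, l • X p = X p' → p = p' := by
    intro p p' l e
    have hl : l = 1 := by
      have := congrArg (B a) e
      rwa [map_smul, hXa, hXa, smul_eq_mul, mul_one] at this
    rw [hl, one_smul] at e
    have ho : p.1 = p'.1 := by
      by_contra hne
      set k := (B a (R p.1))⁻¹
      set k' := (B a (R p'.1))⁻¹
      have e' : k • R p.1 - k' • R p'.1 = (p'.2.1 - p.2.1 : F) • a := by
        simp only [X] at e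
        rw [sub_smul]
        linear_combination (norm := module) e
      have hmem : (p'.2.1 - p.2.1 : F) • a ∈ P := e' ▸ sub_mem (Submodule.smul_mem _ _ (hR _).2.2.1)
        (Submodule.smul_mem _ _ (hR _).2.2.1)
      have hz : (p'.2.1 - p.2.1 : F) = 0 := by
        by_contra hz
        exact haP (by rw [← inv_smul_smul₀ hz a]; exact Submodule.smul_mem _ _ hmem)
      rw [hz, zero_smul, sub_eq_zero] at e'
      refine hRne hne ((B a (R p'.1)) * k) ?_
      rw [mul_smul, e', smul_inv_smul₀ (hBa _)]
    refine Prod.ext ho (Subtype.ext ?_)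
    simp only [X, ho, add_right_inj] at e
    by_contra hne
    have := smul_left_injective F (show a ≠ 0 from fun e' => haP (e' ▸ zero_mem _)) e
    exact hne this
  have hua : ∀ p, LinearIndependent F ![u, X p] := fun p => (LinearIndependent.pair_iff' hu0).2 fun l e => by
    rcases eq_or_ne l 0 with rfl | hl
    · have := hXa p
      rw [← e, zero_smul, map_zero] at this
      exact zero_ne_one this
    · exact hu (by rw [← inv_smul_smul₀ hl u, e]; exact (hX p).2.smul h.conj.invol (inv_ne_zero hl))
  -- the secants through `u`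
  obtain ⟨f, -, hff, huf⟩ := h.exists_partner (nondegOn_iff.2 fun y _ hy =>
    hN y fun z => hy z trivial : NondegOn B (⊤ : Submodule F V)) trivial hu0 huu
  obtain ⟨z, hzu, hzz⟩ : ∃ z, B u z = 0 ∧ z ∉ Submodule.span F {u} := by
    by_contra hall
    push Not at hall
    have hle : LinearMap.ker (B u) ≤ Submodule.span F {u} := fun x hx => hall x hx
    have h1 := Submodule.finrank_mono hle
    rw [finrank_span_singleton hu0] at h1
    have h2 := (B u).finrank_range_add_finrank_ker
    have h4 := Submodule.finrank_le (LinearMap.range (B u))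
    rw [finrank_self] at h4
    omega
  let φ : Option {t // t ∈ T} × {t // t ∈ T} → F := fun p => B z (X p) / B u (X p)
  have hφ : Function.Injective φ := by
    intro p p' e
    have hp : B u (X p) ≠ 0 := h.not_orth_three hN h3 huu (hX p).1 (hua p)
    have hp' : B u (X p') ≠ 0 := h.not_orth_three hN h3 huu (hX p').1 (hua p')
    set d := (B u (X p))⁻¹ • X p - (B u (X p'))⁻¹ • X p' with hd
    have hdu : B u d = 0 := by
      rw [hd, map_sub, map_smul, map_smul, smul_eq_mul, smul_eq_mul, inv_mul_cancel₀ hp, inv_mul_cancel₀ hp',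
        sub_self]
    have hdz : B z d = 0 := by
      rw [hd, map_sub, map_smul, map_smul, smul_eq_mul, smul_eq_mul, ← div_eq_inv_mul, ← div_eq_inv_mul,
        sub_eq_zero]
      exact e
    obtain ⟨l, hl⟩ : ∃ l : F, l • u = d := by
      let L : V →ₗ[F] F × F := (B u).prod (B z)
      have hu' : u ∈ LinearMap.ker L := by
        simp [L, Pi.prod, huu, h.isRefl _ _ hzu]
      have hsurj : Function.Surjective L := by
        rw [← LinearMap.range_eq_top]
        by_contra hne
        obtain ⟨ψ, hψ0, hψ⟩ := Submodule.exists_dual_map_eq_bot_of_lt_top (lt_top_iff_ne_top.2 hne) inferInstance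
        set r := ψ (1, 0)
        set s := ψ (0, 1)
        have hall : ∀ x, r * B u x + s * B z x = 0 := fun x => by
          have h1 := (Submodule.eq_bot_iff _).1 hψ (ψ (L x)) ⟨L x, ⟨x, rfl⟩, rfl⟩
          have h2 : L x = B u x • ((1 : F), (0 : F)) + B z x • ((0 : F), (1 : F)) := by simp [L, Pi.prod]
          rw [h2, map_add, map_smul, map_smul, smul_eq_mul, smul_eq_mul] at h1
          linear_combination h1
        have hv : σ r • u + σ s • z = 0 := hN _ fun x => by
          apply h.isRefl
          simp [h.conj.invol, hall x]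
        obtain ⟨e1, e2⟩ := LinearIndependent.pair_iff.1 ((LinearIndependent.pair_iff' hu0).2
          fun l e => hzz (by rw [← e]; exact Submodule.smul_mem _ l (Submodule.mem_span_singleton_self u))) _ _ hv
        refine hψ0 (LinearMap.ext fun x => ?_)
        rw [show x = x.1 • ((1 : F), (0 : F)) + x.2 • ((0 : F), (1 : F)) by simp, map_add, map_smul, map_smul,
          show ψ (1, 0) = 0 from (map_eq_zero σ).1 e1, show ψ (0, 1) = 0 from (map_eq_zero σ).1 e2]
        simp
      have h1 := L.finrank_range_add_finrank_ker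
      rw [LinearMap.range_eq_top.2 hsurj, finrank_top, finrank_prod, finrank_self, h3] at h1
      have heq : Submodule.span F {u} = LinearMap.ker L :=
        Submodule.eq_of_le_of_finrank_le ((Submodule.span_singleton_le_iff_mem _ _).2 hu')
          (by rw [finrank_span_singleton hu0]; omega)
      have hd' : d ∈ LinearMap.ker L := by simp [L, Pi.prod, hdu, hdz]
      rw [← heq] at hd'
      exact Submodule.mem_span_singleton.1 hd'
    by_contra hne
    rcases eq_or_ne l 0 with rfl | hl0
    · rw [zero_smul] at hl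
      refine hne (hXinj p p' (B u (X p') * (B u (X p))⁻¹) ?_)
      rw [mul_smul, sub_eq_zero.1 (hd.symm.trans hl.symm), smul_inv_smul₀ hp']
    · refine huax (hX p).2 (hX p).1 (hX p').2 (hX p').1 ((LinearIndependent.pair_iff' fun e' => hp (by
        rw [e', map_zero])).2 fun k ek => hne (hXinj p p' k ek)) (α := l⁻¹ * (B u (X p))⁻¹)
        (β := -(l⁻¹ * (B u (X p'))⁻¹)) ?_
      have e' : u = l⁻¹ • d := by rw [← hl, inv_smul_smul₀ hl0]
      refine e'.trans ?_
      rw [hd]
      module
  -- too many
  have hq := card_fix_sq (σ := σ) h.conj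
  obtain ⟨c₀, hc₀, hc₀'⟩ := h.conj.exists_trace_zero
  have hTcard : (fixS σ).card ≤ T.card := by
    refine Finset.card_le_card_of_injOn (fun t => c₀ * t) (fun t ht => ?_) fun _ _ _ _ e => mul_left_cancel₀ hc₀ e
    simp only [fixS, Finset.coe_filter, Finset.mem_univ, true_and, Set.mem_setOf_eq] at ht
    simp only [T, Finset.coe_filter, Finset.mem_univ, true_and, Set.mem_setOf_eq, map_mul, ht]
    linear_combination t * hc₀'
  have hle := Fintype.card_le_of_injective φ hφ
  rw [Fintype.card_prod, Fintype.card_option, Fintype.card_coe, hq] at hle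
  have hpos : 0 < (fixS σ).card := Finset.card_pos.2 ⟨0, by simp [fixS]⟩
  nlinarith

end CfsgLib.Classical.IsHermitian
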