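import Cfsg.Agent.Lib.Classical.GeoMaxSmall.SU

/-!
# Stabilisers of points are maximal in `SU_3`
-/

set_option autoImplicit false
set_option linter.unusedSectionVars false
set_option linter.unusedSimpArgs false

open Module

namespace CfsgLib.Classical.IsHermitian

variable {F : Type*} [Field F] [Finite F] {V : Type*} [AddCommGroup V] [Module F V] [FiniteDimensional F V]
  {σ : F →+* F} {B : V →ₛₗ[σ] V →ₗ[F] F} (h : IsHermitian B)
include h

theorem sIsom_le_of_axes_big (hN : B.SeparatingRight) (hb : BigFixed σ) {M : Subgroup (isomGroup B)}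
    (hA : ∀ v, B v v = 0 → IsTAxis M v) : sIsom B ≤ M := by
  rw [h.sIsom_eq_tGroup hN fun _ => Or.inl hb]
  refine (Subgroup.closure_le _).2 ?_
  rintro g ⟨v, c, hg⟩
  exact hA v hg.1 g c hg

/-- Stabilisers of totally isotropic subspaces are maximal. -/
theorem top_of_stab_ts_three (hN : B.SeparatingRight) (hb : BigFixed σ) {W : Submodule F V}
    (hW : ∀ a ∈ W, ∀ b ∈ W, B a b = 0) {M : Subgroup (isomGroup B)}
    (hM : ∀ g, idet B g = 1 → g ∈ isomStab B W → g ∈ M) {g : isomGroup B} (hg : g ∈ M)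
    (hgW : g ∉ isomStab B W) : sIsom B ≤ M := by
  have hax : ∀ v ∈ perp B W, IsTAxis M v := fun v hv => h.isTAxis_of_mem hM (Or.inr hv)
  obtain ⟨u, hu, hun, huA⟩ : ∃ u, B u u = 0 ∧ u ∉ perp B W ∧ IsTAxis M u := by
    by_contra! hcon
    have : Finite V := Module.finite_of_finite F
    let f : {x : V // x ∈ perp B W ∧ B x x = 0} → {x : V // x ∈ perp B W ∧ B x x = 0} := fun x =>
      ⟨g.1 x.1, by
        by_contra hne
        exact hcon (g.1 x.1) ((g.2 _ _).trans x.2.2) hne ((hax _ x.2.1).map hg), (g.2 _ _).trans x.2.2⟩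
    have hf : Function.Surjective f := (Finite.injective_iff_surjective).1 fun a b e =>
      Subtype.ext (g.1.injective (congrArg Subtype.val e))
    apply hgW
    refine Submodule.eq_of_le_of_finrank_eq ?_ (LinearEquiv.finrank_map_eq _ W)
    rintro _ ⟨w, hw, rfl⟩
    have hwp : w ∈ perp B W := mem_perp.2 fun y hy => hW y hy w hw
    have hmem := (f ⟨w, hwp, hW w hw w hw⟩).2
    change g.1 w ∈ W
    by_contra hne
    rw [← h.perp_perp_herm hN W, mem_perp] at hne
    simp only [not_forall] at hne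
    obtain ⟨y, hy, hyw⟩ := hne
    set x := g.1 w with hxdef
    have hxy : B x y ≠ 0 := fun e => hyw (h.isRefl _ _ e)
    set y' := (B x y)⁻¹ • y with hy'
    have hxy' : B x y' = 1 := by rw [hy', map_smul, smul_eq_mul, inv_mul_cancel₀ hxy]
    have hyp' : y' ∈ perp B W := (perp B W).smul_mem _ hy
    clear_value y'
    obtain ⟨e, he⟩ := h.conj.exists_trace_eq (a := -B y' y') (by rw [map_neg, h.self_fixed])
    have hz : B (y' + e • x) (y' + e • x) = 0 := by
      rw [h.add_self, h.smul_self, (g.2 w w).trans (hW w hw w hw), map_smul, ← h.symm x y', hxy', map_one,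
        smul_eq_mul, mul_one, he]
      ring
    have hzp : y' + e • x ∈ perp B W :=
      (perp B W).add_mem hyp' ((perp B W).smul_mem _ hmem.1)
    obtain ⟨⟨z, hz1, hz2⟩, hz3⟩ := hf ⟨_, hzp, hz⟩
    have h1 : B x (y' + e • x) = 1 := by
      rw [map_add, map_smul, hxy', (g.2 w w).trans (hW w hw w hw), smul_zero, add_zero]
    rw [show y' + e • x = g.1 z from (congrArg Subtype.val hz3).symm, hxdef, g.2,
      mem_perp.1 hz1 w hw] at h1
    exact zero_ne_one h1
  refine h.sIsom_le_of_axes_big hN hb fun v hv => ?_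
  by_cases hvn : v ∈ perp B W
  · exact hax v hvn
  obtain ⟨k, l, hk, hkW, hl, hku⟩ := h.stab_ts_transitive hN hW hu hv hun hvn
  have h1 := (huA.map (hM k hk hkW)).smul h.conj.invol (inv_ne_zero hl)
  rwa [hku, smul_smul, inv_mul_cancel₀ hl, one_smul] at h1

/-- Stabilisers of anisotropic points in dimension three are maximal. -/
theorem top_of_stab_nondeg_three (hN : B.SeparatingRight) (hb : BigFixed σ) {W : Submodule F V}
    (hW : NondegOn B W) (hW1 : finrank F W = 1) (h3 : finrank F V = 3) {M : Subgroup (isomGroup B)}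
    (hM : ∀ g, idet B g = 1 → g ∈ isomStab B W → g ∈ M) {g : isomGroup B} (hg : g ∈ M)
    (hgW : g ∉ isomStab B W) : sIsom B ≤ M := by
  obtain ⟨a, haW, haa⟩ := h.exists_unit_in hW (by omega) (map_one σ)
  have ha0 : a ≠ 0 := fun e => by simp [e] at haa
  have hWa : W = Submodule.span F {a} := (Submodule.eq_of_le_of_finrank_eq
    (Submodule.span_le.2 (by simpa using haW)) (by rw [finrank_span_singleton ha0, hW1])).symm
  set U := perp B W with hUdef
  have hU : NondegOn B U := nondegOn_perp hN hW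
  have hfr := hW.finrank_perp
  rw [← hUdef] at hfr
  have haxU : ∀ v ∈ U, IsTAxis M v := fun v hv => h.isTAxis_of_mem hM (Or.inr hv)
  have hUa : ∀ {u}, u ∈ U → B a u = 0 ∧ B u a = 0 := fun hu =>
    ⟨mem_perp.1 hu a haW, h.isRefl _ _ (mem_perp.1 hu a haW)⟩
  have hsum : ∀ {u}, u ∈ U → B (a + u) (a + u) = 1 + B u u := fun hu => by
    rw [h.add_self, haa, (hUa hu).1]; simp
  have hscale : ∀ {v : V}, B v v = 0 → v ∉ U → ∃ l : F, ∃ u : V, l ≠ 0 ∧ u ∈ U ∧ v = l • (a + u) ∧
      B u u = -1 := by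
    intro v hv hvU
    obtain ⟨w, u, e⟩ := exists_add_eq hW.isCompl v
    obtain ⟨l, hl⟩ := Submodule.mem_span_singleton.1 (hWa ▸ w.2 : (w : V) ∈ Submodule.span F {a})
    have hl0 : l ≠ 0 := fun e0 => hvU (by
      rw [e0, zero_smul] at hl
      rw [← e, ← hl, zero_add]
      exact u.2)
    have hu : (l⁻¹ • (u : V)) ∈ U := U.smul_mem _ u.2
    have hv' : v = l • (a + l⁻¹ • (u : V)) := by
      rw [smul_add, smul_smul, mul_inv_cancel₀ hl0, one_smul, hl, e]
    refine ⟨l, _, hl0, hu, hv', ?_⟩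
    have h1 : l * σ l * (1 + B (l⁻¹ • (u : V)) (l⁻¹ • (u : V))) = 0 := by
      rw [← hsum hu, ← h.smul_self, ← hv', hv]
    have hσl : σ l ≠ 0 := fun e0 => hl0 (by rw [← h.conj.invol l, e0, map_zero])
    linear_combination (mul_eq_zero.1 h1).resolve_left (mul_ne_zero hl0 hσl)
  obtain ⟨x, hx, hxx, hgx⟩ : ∃ x ∈ U, B x x = 0 ∧ g.1 x ∉ U := by
    by_contra! hall
    apply hgW
    have h1 : U.map (g.1 : V →ₗ[F] V) ≤ U := by
      refine le_trans (Submodule.map_mono (h.le_span_isotropic hU (by omega))) ?_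
      rw [Submodule.map_span, Submodule.span_le]
      rintro _ ⟨x, ⟨hx, hxx⟩, rfl⟩
      exact hall x hx hxx
    have h2 := Submodule.eq_of_le_of_finrank_eq h1 (LinearEquiv.finrank_map_eq _ U)
    have h3 := map_perp g.2 U
    rw [h2, hUdef, h.perp_perp_herm hN] at h3
    exact h3
  obtain ⟨l₀, u, hl₀, hu, hgxe, huu⟩ := hscale ((g.2 x x).trans hxx) hgx
  have hax : IsTAxis M (a + u) := by
    have h1 := ((haxU x hx).map hg).smul h.conj.invol (inv_ne_zero hl₀)
    rwa [hgxe, smul_smul, inv_mul_cancel₀ hl₀, one_smul] at h1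
  refine h.sIsom_le_of_axes_big hN hb fun v hv => ?_
  by_cases hvU : v ∈ U
  · exact haxU v hvU
  obtain ⟨l, u', hl, hu', rfl, huu'⟩ := hscale hv hvU
  refine IsTAxis.smul ?_ h.conj.invol hl
  -- move `u` to `u'` inside the stabiliser
  have hli : ∀ {w : V}, w ∈ U → B w w = -1 → LinearIndependent F ![a, w] := fun {w} hw hww =>
    (LinearIndependent.pair_iff' ha0).2 fun c e => by
      have h1 := congrArg (B a) e
      rw [map_smul, haa, (hUa hw).1, smul_eq_mul, mul_one] at h1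
      rw [h1, zero_smul] at e
      rw [← e] at hww
      simp at hww
  obtain ⟨k, hk⟩ := h.witt_family hN (hli hu huu) (hli hu' huu') (Fin.forall_fin_two.2
    ⟨Fin.forall_fin_two.2 ⟨rfl, by simp [(hUa hu).1, (hUa hu').1]⟩,
      Fin.forall_fin_two.2 ⟨by simp [(hUa hu).2, (hUa hu').2], by simp [huu, huu']⟩⟩)
  have hka : k.1 a = a := hk 0
  have hku : k.1 u = u' := hk 1
  have hX := h.nondegOn_span_singleton (x := u') (by rw [huu']; simp)
  obtain ⟨hnd, hr⟩ := h.finrank_inf_perp hX hU (Submodule.span_le.2 (by simpa using hu'))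
  rw [finrank_span_singleton (fun e : u' = 0 => by simp [e] at huu')] at hr
  obtain ⟨z, hz, hzz⟩ := h.exists_unit_in hnd (by omega) (map_one σ)
  obtain ⟨t, ht, htd⟩ := h.exists_qr hN (z := z) (by rw [hzz]; exact one_ne_zero) (l := (idet B k)⁻¹)
    (by rw [map_inv₀, ← mul_inv, h.idet_norm hN, inv_one])
  have hzu' : B z u' = 0 := h.isRefl _ _ (mem_perp.1 hz.2 u' (Submodule.mem_span_singleton_self u'))
  have hta : t.1 a = a := by rw [ht, (hUa hz.1).2, mul_zero, zero_smul, add_zero]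
  have htu : t.1 u' = u' := by rw [ht, hzu', mul_zero, zero_smul, add_zero]
  have htk : t * k ∈ M := by
    refine hM _ ?_ ?_
    · rw [map_mul, htd, inv_mul_cancel₀]
      intro e
      simpa [e] using h.idet_norm hN k
    · refine Submodule.eq_of_le_of_finrank_eq ?_ (LinearEquiv.finrank_map_eq _ W)
      rw [hWa, Submodule.map_span, Submodule.span_le]
      rintro _ ⟨y, hy, rfl⟩
      rw [Set.mem_singleton_iff.1 hy]
      change t.1 (k.1 a) ∈ _
      rw [hka, hta]
      exact Submodule.mem_span_singleton_self a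
  have h1 := hax.map htk
  rwa [show (t * k).1 (a + u) = t.1 (k.1 (a + u)) from rfl, map_add, hka, hku, map_add, hta, htu] at h1

end CfsgLib.Classical.IsHermitian

namespace CfsgLib.Classical.GeoThree.SU

open Cfsg

theorem bigFixed_of_three {F : Type*} [Field F] [Fintype F] {q : ℕ} {σ : F →+* F}
    (hF : Fintype.card F = q ^ 2) (hσ : ∀ x, σ x = x ^ q) (hc : CfsgLib.Classical.IsConjugation σ) (hq : 3 ≤ q) :
    CfsgLib.Classical.BigFixed σ := by
  have h := (CfsgLib.Classical.frob_cards hF hσ hc).1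
  have : Nontrivial (CfsgLib.Classical.fixedUnits σ) := Finite.one_lt_card_iff_nontrivial.1 (by omega)
  obtain ⟨u, hu⟩ := exists_ne (1 : CfsgLib.Classical.fixedUnits σ)
  exact ⟨(u : Fˣ), u.2, Units.ne_zero _, fun e => hu (Subtype.ext (Units.ext e))⟩

/-- Stabilisers of isotropic points. -/
theorem isMax_ts_three {F : Type*} [Field F] [Fintype F] (n q : ℕ) (hF : Fintype.card F = q ^ 2) (hn : n = 3) (hq : 3 ≤ q) (W : Submodule F (Fin n → F)) (hW0 : W ≠ ⊥) (hW : Cfsg.Geo.IsTotallySingularFor (Cfsg.hermForm n F q) W) : Cfsg.Geo.IsMaximalIn (Cfsg.GU n F q ⊓ Cfsg.Geo.specialLinear (Fin n) F) (Cfsg.Geo.subspaceStabilizer W ⊓ (Cfsg.GU n F q ⊓ Cfsg.Geo.specialLinear (Fin n) F)) := by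
  obtain ⟨σ, hσ, hc⟩ := CfsgLib.Classical.exists_frob hF
  have h := CfsgLib.Classical.stdHerm_isHermitian hc n
  have hN := CfsgLib.Classical.stdHerm_sepRight (σ := σ) n
  have hW' : ∀ a ∈ W, ∀ b ∈ W, CfsgLib.Classical.stdHerm σ n a b = 0 := fun a ha b hb => by
    rw [← CfsgLib.Classical.hermForm_eq_stdHerm hσ]; exact hW b hb a ha
  refine CfsgLib.Classical.gu_isMaximalIn hσ _ (· ∈ CfsgLib.Classical.isomStab _ W)
    (CfsgLib.Classical.mem_stab_iff_isomStab W) ?_ fun M hM g hg hgW =>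
      h.top_of_stab_ts_three hN (CfsgLib.Classical.GeoThree.SU.bigFixed_of_three hF hσ hc hq) hW' hM hg hgW
  obtain ⟨w, hw, hw0⟩ := (Submodule.ne_bot_iff W).1 hW0
  obtain ⟨s, -, hs, hws⟩ := h.exists_partner (CfsgLib.Classical.nondegOn_iff.2 fun y _ hy =>
    hN y fun z => hy z trivial : CfsgLib.Classical.NondegOn _ (⊤ : Submodule F (Fin n → F))) trivial hw0 (hW' w hw w hw)
  have hs0 : s ≠ 0 := fun e => by simp [e] at hws
  obtain ⟨g, l, hgl⟩ := h.move_point hN (hW' w hw w hw) hs hw0 hs0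
  refine ⟨g.1, MonoidHom.mem_ker.1 g.2, fun hg => ?_⟩
  have h1 : g.1.1 w ∈ W := (CfsgLib.Classical.mem_isomStab.1 hg).le ⟨w, hw, rfl⟩
  have h2 := hW' w hw _ h1
  rw [hgl, map_smul, hws, smul_eq_mul, mul_one] at h2
  rw [h2, zero_smul] at hgl
  exact hw0 (g.1.1.injective (hgl.trans (map_zero _).symm))

/-- Stabilisers of anisotropic points. -/
theorem isMax_nondeg_three {F : Type*} [Field F] [Fintype F] (n q : ℕ) (hF : Fintype.card F = q ^ 2) (hn : n = 3) (hq : 3 ≤ q) (W : Submodule F (Fin n → F)) (hW0 : W ≠ ⊥) (hW : Cfsg.Geo.IsNondegenerateOn (Cfsg.hermForm n F q) W) (hdim : 2 * Module.finrank F W < n) : Cfsg.Geo.IsMaximalIn (Cfsg.GU n F q ⊓ Cfsg.Geo.specialLinear (Fin n) F) (Cfsg.Geo.subspaceStabilizer W ⊓ (Cfsg.GU n F q ⊓ Cfsg.Geo.specialLinear (Fin n) F)) := by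
  obtain ⟨σ, hσ, hc⟩ := CfsgLib.Classical.exists_frob hF
  have h := CfsgLib.Classical.stdHerm_isHermitian hc n
  have hN := CfsgLib.Classical.stdHerm_sepRight (σ := σ) n
  have hNW : CfsgLib.Classical.NondegOn (CfsgLib.Classical.stdHerm σ n) W := by
    rw [CfsgLib.Classical.nondegOn_iff]
    intro x hx hx'
    by_contra hne
    obtain ⟨y, hy, hyx⟩ := (hW x hx hne).1
    exact hyx (by rw [CfsgLib.Classical.hermForm_eq_stdHerm hσ]; exact h.isRefl _ _ (hx' y hy))
  have hfr := hNW.finrank_perp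
  have hn' : Module.finrank F (Fin n → F) = n := Module.finrank_fin_fun F
  refine CfsgLib.Classical.gu_isMaximalIn hσ _ (· ∈ CfsgLib.Classical.isomStab _ W)
    (CfsgLib.Classical.mem_stab_iff_isomStab W) ?_ fun M hM g hg hgW =>
      h.top_of_stab_nondeg_three hN (CfsgLib.Classical.GeoThree.SU.bigFixed_of_three hF hσ hc hq) hNW (by
        have : Module.finrank F W ≠ 0 := fun h0 => hW0 (Submodule.finrank_eq_zero.1 h0)
        omega) (by omega) hM hg hgW
  have hU := CfsgLib.Classical.nondegOn_perp hN hNW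
  obtain ⟨e, f, he, -, hee, -, hef⟩ := h.exists_hyp_in hU (by omega)
  have hpos : 0 < Module.finrank F W := by
    refine Nat.pos_of_ne_zero fun h0 => hW0 ?_
    rwa [Submodule.finrank_eq_zero] at h0
  obtain ⟨w, hw, hww⟩ := h.exists_unit_in hNW hpos (map_one σ)
  obtain ⟨u, hu, huu⟩ := h.exists_unit_in hU (by omega) (a := -1) (by rw [map_neg, map_one])
  have he0 : e ≠ 0 := fun e' => by simp [e'] at hef
  have hwu : w + u ∉ CfsgLib.Classical.perp (CfsgLib.Classical.stdHerm σ n) W := fun hm => by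
    have h1 := CfsgLib.Classical.mem_perp.1 hm w hw
    rw [map_add, hww, CfsgLib.Classical.mem_perp.1 hu w hw, add_zero] at h1
    exact one_ne_zero h1
  have hwu0 : w + u ≠ 0 := fun e' => hwu (by rw [e']; exact zero_mem _)
  have hwuu : CfsgLib.Classical.stdHerm σ n (w + u) (w + u) = 0 := by
    rw [h.add_self, hww, huu, CfsgLib.Classical.mem_perp.1 hu w hw]; simp
  obtain ⟨g, l, hgl⟩ := h.move_point hN hee hwuu he0 hwu0
  refine ⟨g.1, MonoidHom.mem_ker.1 g.2, fun hg => hwu ?_⟩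
  have h2 : g.1.1 e ∈ CfsgLib.Classical.perp (CfsgLib.Classical.stdHerm σ n) W := by
    have h3 := CfsgLib.Classical.map_perp g.1.2 W
    rw [CfsgLib.Classical.mem_isomStab.1 hg] at h3
    exact h3.le ⟨e, he, rfl⟩
  rw [hgl] at h2
  have hl : l ≠ 0 := fun e' => by
    rw [e', zero_smul] at hgl
    exact he0 (g.1.1.injective (hgl.trans (map_zero _).symm))
  exact (Submodule.smul_mem_iff _ hl).1 h2

end CfsgLib.Classical.GeoThree.SU
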